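import Cfsg.Agent.H126.PwO.Mats_m3
import Cfsg.Agent.H824.Fs.ExPar
import Cfsg.Agent.Prune
set_option linter.all false
prune_inst 0x7f00000000000000000000000000000000000000000000000000000000000000000000000000000000000000000000000000000000000000000000000000000000000000000000000000000000000000003fffffffffffffffffffffffffffbeffbdffffffff

/-!
# S2465: the row `F₄(2)` (helper335)

* `ps_all` : the elements of `Ps = C(x 44)`;
* `row_two` : every element of `F₄(2)` is a product of two elements of order prime to 6.
-/

set_option autoImplicit false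

namespace Cfsg.Agent.H335.FT

open Cfsg.Agent.H78.Pw Cfsg.Agent.FourTwo.Cent Cfsg.Lie

universe u

/-- **The elements of `Ps = C(x 44)`.** -/
theorem ps_all : ∀ g ∈ Ps, Pr 6 g := ps_of fun _ hg => Cfsg.Agent.H903.Pw.Rho.exists_word' hg

/-- **The row `F₄(2)`** of S2465. -/
theorem row_LL : All 6 Cfsg.Agent.FourTwo.Base.LL :=
  Cfsg.Agent.H903.Pw.FTwo.six_of ps_all Cfsg.Agent.H824.Fs.exists_conj_par

/-- **The row `F₄(2)`** of S2465, over any field with two elements. -/
theorem row_two {K : Type u} [Field K] (hK : Nat.card K = 2) : All 6 ↥(chevF4.group K) :=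
  Cfsg.Agent.H903.Pw.FTwo.six_two row_LL hK

end Cfsg.Agent.H335.FT
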